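import Groth.Agent.Lib.KodV98.Main
import Groth.Agent.Lib.EulerSeq.Frame
import Groth.Agent.Lib.ASTorsor98.Unipotent

/-!
# Injectivity of `H¹(E) → H¹(F^*E)` for a locally free module
-/

set_option autoImplicit false

noncomputable section

universe u

open CategoryTheory CategoryTheory.Limits AlgebraicGeometry Opposite TopologicalSpace
open scoped TensorProduct
open ZarCoh.FlatBC.PullbackSections

namespace Groth.Agent.Lib.KodV98.Bundle

open Groth.Agent.Lib.TensorMod Groth.Agent.Lib.TensorMod.Dual Groth.Agent.Lib.TensorMod.Gen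
  Groth.Agent.Lib.TensorMod.Basis

variable {X : Scheme.{u}}

/-- The germs of a basis of sections form a basis of the stalk. -/
theorem exists_stalk_basis {M : X.Modules} {U : X.Opens} {n : ℕ} {e : Fin n → Γ(M, U)} (he : IsBasis e)
    {x : X} (hx : x ∈ U) :
    ∃ b : Module.Basis (Fin n) (X.presheaf.stalk x) (M.presheaf.stalk x),
      ∀ i, b i = M.presheaf.germ U x hx (e i) := by
  classical
  let v : Fin n → M.presheaf.stalk x := fun i => M.presheaf.germ U x hx (e i)
  have hcomb : ∀ (W : X.Opens) (h : W ≤ U) (hxW : x ∈ W) (a : Fin n → Γ(X, W)),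
      M.presheaf.germ W x hxW (comb e h a) = ∑ i, X.presheaf.germ W x hxW (a i) • v i := fun W h hxW a => by
    rw [comb, map_sum]
    refine Finset.sum_congr rfl fun i _ => ?_
    rw [Modules.StalkModule.germ_smul, TopCat.Presheaf.germ_res_apply]
  have hspan : ⊤ ≤ Submodule.span (X.presheaf.stalk x) (Set.range v) := by
    intro m _
    obtain ⟨O, hxO, m, rfl⟩ := TopCat.Presheaf.exists_germ_eq M.presheaf m
    obtain ⟨a, ha⟩ := (he (U ⊓ O) inf_le_left).2 (rs M inf_le_right m)
    have h1 := hcomb (U ⊓ O) inf_le_left ⟨hx, hxO⟩ a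
    rw [ha, TopCat.Presheaf.germ_res_apply] at h1
    rw [h1]
    exact sum_mem fun i _ => Submodule.smul_mem _ _ (Submodule.subset_span ⟨i, rfl⟩)
  have hli : LinearIndependent (X.presheaf.stalk x) v := by
    rw [Fintype.linearIndependent_iff]
    intro c hc
    choose O hxO a ha using fun i => TopCat.Presheaf.exists_germ_eq X.presheaf (c i)
    let W : X.Opens := U ⊓ Finset.univ.inf O
    have hxW : x ∈ W := by
      refine ⟨hx, ?_⟩
      suffices h : ∀ s : Finset (Fin n), x ∈ s.inf O from h _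
      intro s
      induction s using Finset.induction_on with
      | empty => simp
      | insert i s _ ih => rw [Finset.inf_insert]; exact ⟨hxO i, ih⟩
    have hWO : ∀ i, W ≤ O i := fun i => inf_le_right.trans (Finset.inf_le (Finset.mem_univ i))
    have h0 : M.presheaf.germ W x hxW (comb e inf_le_left fun i => rf (hWO i) (a i)) = 0 := by
      rw [hcomb, ← hc]
      exact Finset.sum_congr rfl fun i _ => by rw [TopCat.Presheaf.germ_res_apply, ha]
    obtain ⟨Z, hxZ, i₁, i₂, hZ⟩ := TopCat.Presheaf.germ_eq M.presheaf x hxW hxW _ _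
      (h0.trans (map_zero (M.presheaf.germ W x hxW).hom).symm)
    change rs M i₁.le _ = rs M i₂.le _ at hZ
    rw [rs_comb, show rs M i₂.le (0 : Γ(M, W)) = 0 from map_zero _] at hZ
    have hzero : comb e (i₁.le.trans inf_le_left) (0 : Fin n → Γ(X, Z)) = 0 := by simp [comb]
    intro i
    have h2 := congrArg (X.presheaf.germ Z x hxZ) (congrFun ((he Z _).1 (hZ.trans hzero.symm)) i)
    rw [TopCat.Presheaf.germ_res_apply, TopCat.Presheaf.germ_res_apply, ha] at h2
    exact h2.trans (map_zero _)
  exact ⟨Module.Basis.mk hli hspan, fun i => Module.Basis.mk_apply _ _ i⟩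

/-- Coefficients in `M ⊗ N` with respect to a basis of `M` are unique. -/
theorem sum_tl_eq_zero {M N : X.Modules} {U : X.Opens} {n : ℕ} {e : Fin n → Γ(M, U)} (he : IsBasis e)
    {v : Fin n → Γ(N, U)} (h : ∑ i, Main.tl M (e i) (v i) = 0) (i : Fin n) : v i = 0 := by
  refine TopCat.Presheaf.section_ext (⟨N.presheaf, N.isSheaf⟩ : TopCat.Sheaf AddCommGrpCat.{u} X)
    U (v i) 0 fun x hx => ?_
  obtain ⟨b, hb⟩ := exists_stalk_basis he hx
  have hterm : ∀ j, DerivedOX.TensorSheaf.tensorStalk x M N
      ((CohB1.tensorMod M N).presheaf.germ U x hx (Main.tl M (e j) (v j))) =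
        b j ⊗ₜ N.presheaf.germ U x hx (v j) := fun j => by
    rw [hb]
    exact Modules.TensorGen.tensorStalk_germ_tmul hx (e j) (v j)
  have h1 : ∑ j, b j ⊗ₜ[DerivedOX.TensorStalk.Ox x] N.presheaf.germ U x hx (v j) = 0 := by
    simp only [← hterm]
    let Φ : Γ(CohB1.tensorMod M N, U) →+
        M.presheaf.stalk x ⊗[DerivedOX.TensorStalk.Ox x] N.presheaf.stalk x :=
      AddMonoidHom.mk' (fun z => DerivedOX.TensorSheaf.tensorStalk x M N
        ((CohB1.tensorMod M N).presheaf.germ U x hx z))
        fun a b => (congrArg (DerivedOX.TensorSheaf.tensorStalk x M N)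
          (map_add ((CohB1.tensorMod M N).presheaf.germ U x hx).hom a b)).trans (map_add _ _ _)
    change ∑ j, Φ (Main.tl M (e j) (v j)) = 0
    rw [← map_sum, h, map_zero]
  have h2 := congrArg ((TensorProduct.lid _ (N.presheaf.stalk x)).toLinearMap ∘ₗ
    (b.coord i).rTensor (N.presheaf.stalk x)) h1
  rw [map_sum, map_zero] at h2
  simp only [LinearMap.comp_apply, LinearMap.rTensor_tmul, Module.Basis.coord_apply,
    Module.Basis.repr_self, LinearEquiv.coe_coe, TensorProduct.lid_tmul, Finsupp.single_apply,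
    ite_smul, one_smul, zero_smul, Finset.sum_ite_eq', Finset.mem_univ, if_true] at h2
  exact h2.trans (map_zero (N.presheaf.germ U x hx).hom).symm

variable (p : ℕ) [Fact p.Prime] [FrobSch.IsCharP X p] (E : X.Modules)

/-- The semilinear map on sections. -/
def ev (V : X.Opens) (m : Γ(E, V)) : Γ((ASTorsor98.Unipotent.F₁ X p).obj E, V) :=
  TensorMod.Pullback.unitSec (FrobSch.frob X p) E m

theorem ev_smul (V : X.Opens) (a : Γ(X, V)) (m : Γ(E, V)) :
    ev p E V (a • m) = a ^ p • ev p E V m :=
  Ample.GenLocus.unitSec_smul (FrobSch.frob X p) a m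

theorem ev_rs {V W : X.Opens} (h : W ≤ V) (m : Γ(E, V)) :
    rs ((ASTorsor98.Unipotent.F₁ X p).obj E) h (ev p E V m) = ev p E W (rs E h m) :=
  Ample.GenLocus.unitSec_rs (FrobSch.frob X p) h m

theorem ev_comb {V W : X.Opens} (h : W ≤ V) {n : ℕ} (e : Fin n → Γ(E, V)) (a : Fin n → Γ(X, W)) :
    ev p E W (comb e h a) = comb (fun i => ev p E V (e i)) h fun i => a i ^ p := by
  have hadd : ev p E W (∑ i, a i • rs E h (e i)) = ∑ i, ev p E W (a i • rs E h (e i)) :=
    map_sum (((TensorMod.Pullback.pbAdj (FrobSch.frob X p)).unit.app E).app W).hom _ _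
  rw [comb, hadd]
  exact Finset.sum_congr rfl fun i _ => by rw [ev_smul, ev_rs]

theorem isBasis_ev (hE : FlatMod.IsFinLocFree E) {U : X.Opens} (hU : IsAffineOpen U) {n : ℕ}
    {e : Fin n → Γ(E, U)} (he : IsBasis e) : IsBasis fun i => ev p E U (e i) := by
  have h := EulerSeq.Frame.isBasis_pbRes (π := FrobSch.frob X p)
    (TensorMod.QCohInv.isQCoh_of_isFinLocFree hE) hU he
  have hfun : (fun i => pbRes (FrobSch.frob X p) E (le_refl (FrobSch.frob X p ⁻¹ᵁ U)) (e i)) =
      fun i => ev p E U (e i) := funext fun i =>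
    rs_self (M := (ASTorsor98.Unipotent.F₁ X p).obj E) le_rfl (ev p E U (e i))
  rw [← hfun]
  exact h

theorem exists_affine_basis (hE : FlatMod.IsFinLocFree E) (x : X) (O : X.Opens) (hxO : x ∈ O) :
    ∃ (V : X.Opens) (n : ℕ) (e : Fin n → Γ(E, V)), x ∈ V ∧ V ≤ O ∧ IsAffineOpen V ∧ IsBasis e := by
  obtain ⟨U, n, hxU, ⟨i⟩⟩ := hE x
  obtain ⟨e, he⟩ := exists_basis_of_iso i
  obtain ⟨V, hV, hxV, hle⟩ := exists_isAffineOpen_mem_and_subset (U := O ⊓ U) (x := x) ⟨hxO, hxU⟩
  exact ⟨V, n, _, hxV, fun y hy => (hle hy).1, hV, he.res fun y hy => (hle hy).2⟩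

theorem η_injective [AlgebraicGeometry.IsReduced X] (hE : FlatMod.IsFinLocFree E) (U : X.Opens)
    (s t : Γ(E, U)) (h : ev p E U s = ev p E U t) : s = t := by
  choose V n e hxV hVU hV he using fun x : U => exists_affine_basis E hE x U x.2
  refine HomGlue.sections_ext_cover V E (fun x hx => Opens.mem_iSup.2 ⟨⟨x, hx⟩, hxV ⟨x, hx⟩⟩) fun x => ?_
  have hW : U ⊓ V x ≤ V x := inf_le_right
  obtain ⟨a, ha⟩ := (he x (U ⊓ V x) hW).2 (rs E inf_le_left s)
  obtain ⟨b, hb⟩ := (he x (U ⊓ V x) hW).2 (rs E inf_le_left t)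
  have h1 := congrArg (rs _ (inf_le_left : U ⊓ V x ≤ U)) h
  rw [ev_rs, ev_rs, ← ha, ← hb, ev_comb, ev_comb] at h1
  have h2 := (isBasis_ev p E hE (hV x) (he x) _ hW).1 h1
  rw [← ha, ← hb]
  refine congrArg _ (funext fun i => ?_)
  exact sub_eq_zero.1 (IsReduced.eq_zero _ ⟨p, by
    have h4 := (FrobSch.powHom p Γ(X, U ⊓ V x) (FrobSch.natCast_eq_zero_app X p _)).map_sub (a i) (b i)
    change (a i - b i) ^ p = a i ^ p - b i ^ p at h4
    rw [h4, congrFun h2 i, sub_self]⟩)

variable (k : Type u) [_root_.Field k] [CharP k p] [PerfectRing k p]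
  (f : X ⟶ Spec (CommRingCat.of k)) [QuasiSeparated f] [AlgebraicGeometry.IsIntegral X]

include f in
/-- `H¹(E) → H¹(F^*E)` is injective if `F^*E ⊗ Ω` has no global sections. -/
theorem injective_H1_η (hXn : Pi1.IsNormalScheme X) (hE : FlatMod.IsFinLocFree E)
    (h0 : Subsingleton
      (Coh.HH X (CohB1.tensorMod ((ASTorsor98.Unipotent.F₁ X p).obj E) (Omega.sheaf f)) 0)) :
    Function.Injective (Sheaf.H.map (ASTorsor98.Unipotent.η₁ X p E) 1) := by
  let ψ := ASTorsor98.Unipotent.η₁ X p E
  let F := (ASTorsor98.Unipotent.F₁ X p).obj E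
  haveI : Mono ψ := Sheaf.mono_of_injective ψ (fun U s t hst => η_injective p E hE U.unop s t hst)
  let S : ShortComplex _ := ShortComplex.mk ψ (cokernel.π ψ) (cokernel.condition ψ)
  have hS : S.ShortExact :=
    { exact := ShortComplex.exact_of_g_is_cokernel S (cokernelIsCokernel ψ) }
  let T := CohB1.tensorMod F (Omega.sheaf f)
  let d : OmegaSh.Der f (Omega.sheaf f) := OmegaSh.dOmega f
  have hQ0 : ∀ q : (cokernel ψ).obj.obj (op (⊤ : X.Opens)), q = 0 := by
    intro q
    haveI : Sheaf.IsLocallySurjective (cokernel.π ψ) :=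
      (Sheaf.isLocallySurjective_iff_epi' (φ := cokernel.π ψ)).2 inferInstance
    have hlift : ∀ x : X, ∃ (V : X.Opens) (n : ℕ) (e : Fin n → Γ(E, V)) (α : Fin n → Γ(X, V)),
        x ∈ V ∧ IsAffineOpen V ∧ IsBasis e ∧
          (cokernel.π ψ).hom.app (op V) (show Γ(F, V) from comb (fun i => ev p E V (e i)) le_rfl α) =
            (cokernel ψ).obj.map (homOfLE le_top).op q := by
      intro x
      obtain ⟨V₀, i₀, ⟨m, hm⟩, hxV₀⟩ :=
        Presheaf.imageSieve_mem (Opens.grothendieckTopology X) (cokernel.π ψ).hom (U := op ⊤) q x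
          (by trivial)
      obtain ⟨V, n, e, hxV, h0V, hV, he⟩ := exists_affine_basis E hE x V₀ hxV₀
      obtain ⟨α, hα⟩ := (isBasis_ev p E hE hV he V le_rfl).2 (rs F h0V m)
      refine ⟨V, n, e, α, hxV, hV, he, ?_⟩
      rw [hα]
      have h1 := ConcreteCategory.congr_hom ((cokernel.π ψ).hom.naturality (homOfLE h0V).op) m
      refine h1.trans ?_
      change (cokernel ψ).obj.map (homOfLE h0V).op ((cokernel.π ψ).hom.app (op V₀) m) = _
      rw [hm, ← ConcreteCategory.comp_apply, ← Functor.map_comp]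
      rfl
    choose V n e α hxV hV he hq using hlift
    have hb : ∀ x, IsBasis fun i => ev p E (V x) (e x i) := fun x => isBasis_ev p E hE (hV x) (he x)
    let ω : ∀ x, Γ(T, V x) := fun x => ∑ i, Main.tl F (ev p E (V x) (e x i)) (d.app (V x) (α x i))
    have hcompat : TopCat.Presheaf.IsCompatible T.presheaf V ω := fun x y => by
      let W := V x ⊓ V y
      have hx : W ≤ V x := inf_le_left
      have hy : W ≤ V y := inf_le_right
      change rs T hx (ω x) = rs T hy (ω y)
      let G := sheafToPresheaf (Opens.grothendieckTopology X) AddCommGrpCat.{u} ⋙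
        (evaluation _ _).obj (op W)
      have hG : (S.map G).Exact := hS.exact.map_of_mono_of_preservesKernel G hS.mono_f inferInstance
      have hres : ∀ z (h : W ≤ V z), (cokernel.π ψ).hom.app (op W)
          (show Γ(F, W) from comb (fun i => ev p E (V z) (e z i)) h (fun i => rf h (α z i))) =
            (cokernel ψ).obj.map (homOfLE le_top).op q := by
        intro z h
        have h1 := ConcreteCategory.congr_hom ((cokernel.π ψ).hom.naturality (homOfLE h).op)
          (show Γ(F, V z) from comb (fun i => ev p E (V z) (e z i)) le_rfl (α z))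
        have h2 : rs F h (comb (fun i => ev p E (V z) (e z i)) le_rfl (α z)) =
            comb (fun i => ev p E (V z) (e z i)) h (fun i => rf h (α z i)) := rs_comb _ _ _ _
        rw [← h2]
        refine h1.trans ((congrArg ((cokernel ψ).obj.map (homOfLE h).op) (hq z)).trans ?_)
        rw [← ConcreteCategory.comp_apply, ← Functor.map_comp]
        rfl
      choose C hC using fun j => (he x W hx).2 (rs E hy (e y j))
      have hCy : ∀ j, ev p E W (rs E hy (e y j)) =
          ∑ i, C j i ^ p • ev p E W (rs E hx (e x i)) := fun j => by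
        rw [← hC j, ev_comb, comb]
        exact Finset.sum_congr rfl fun i _ => by rw [ev_rs]
      let β : Fin (n x) → Γ(X, W) := fun i => ∑ j, rf hy (α y j) * C j i ^ p
      have hycomb : comb (fun j => ev p E (V y) (e y j)) hy (fun j => rf hy (α y j)) =
          comb (fun i => ev p E (V x) (e x i)) hx β := by
        simp only [comb, ev_rs, hCy, Finset.smul_sum, smul_smul, β, Finset.sum_smul]
        exact Finset.sum_comm
      obtain ⟨c, hc⟩ := (ShortComplex.ab_exact_iff _).1 hG
        ((show Γ(F, W) from comb (fun i => ev p E (V x) (e x i)) hx (fun i => rf hx (α x i))) -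
          (show Γ(F, W) from comb (fun i => ev p E (V y) (e y i)) hy (fun i => rf hy (α y i))))
        ((map_sub ((cokernel.π ψ).hom.app (op W)).hom _ _).trans
          (sub_eq_zero.2 ((hres x hx).trans (hres y hy).symm)))
      obtain ⟨γ, hγ⟩ := (he x W hx).2 (show Γ(E, W) from c)
      change ev p E W (show Γ(E, W) from c) = _ at hc
      rw [← hγ, ev_comb, hycomb] at hc
      have hc' : (fun i => γ i ^ p) = fun i => rf hx (α x i) - β i := by
        refine (hb x W hx).1 (hc.trans ?_)
        simp only [comb, sub_smul, Finset.sum_sub_distrib]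
      have hd0 : ∀ t : Γ(X, W), d.app W (t ^ p) = 0 := fun t =>
        Kaehler.Frob.der_app_pow d W t p (Fact.out : p.Prime).one_le (FrobSch.natCast_eq_zero_app X p W)
      have hd : ∀ i, d.app W (rf hx (α x i)) = ∑ j, C j i ^ p • d.app W (rf hy (α y j)) := fun i => by
        have h3 := congrArg (d.app W) (congrFun hc' i)
        rw [hd0, map_sub, eq_comm, sub_eq_zero] at h3
        rw [h3, map_sum]
        exact Finset.sum_congr rfl fun j _ => by
          rw [Kaehler.Basic.der_app_mul, hd0, smul_zero, zero_add]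
      have e1 : ∀ z (h : W ≤ V z), rs T h (ω z) =
          ∑ i, Main.tl F (ev p E W (rs E h (e z i))) (d.app W (rf h (α z i))) := by
        intro z h
        refine (rs_sum T h _ _).trans (Finset.sum_congr rfl fun i _ => ?_)
        refine (Ample.GenLocus.rs_tmul h _ _).trans ?_
        rw [ev_rs]
        exact congrArg (Main.tl F (ev p E W (rs E h (e z i))))
          (Kaehler.Basic.der_app_map d h (α z i)).symm
      have e2 : ∀ j (w : Γ(Omega.sheaf f, W)),
          Main.tl F (∑ i, C j i ^ p • ev p E W (rs E hx (e x i))) w =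
            ∑ i, Main.tl F (ev p E W (rs E hx (e x i))) (C j i ^ p • w) := fun j w => by
        let L : Γ(F, W) →+ Γ(T, W) := AddMonoidHom.mk' (fun g => Main.tl F g w) fun a b => by
          change (SecTwist.tmul F (Omega.sheaf f) W (a + b) w : Γ(T, W)) = _
          rw [← Ample.GenLocus.pairM_id, TensorMod.Pullback.pairM_add_left]
          rfl
        change L _ = _
        rw [map_sum]
        exact Finset.sum_congr rfl fun i _ => Main.tl_smul F _ _ _
      rw [e1 x hx, e1 y hy]
      simp only [hCy, e2, hd, map_sum]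
      exact Finset.sum_comm
    obtain ⟨w, hw, -⟩ := TopCat.Sheaf.existsUnique_gluing'
      (⟨T.presheaf, T.isSheaf⟩ : TopCat.Sheaf Ab.{u} X) V ⊤ (fun x => homOfLE le_top)
      (fun x _ => Opens.mem_iSup.2 ⟨x, hxV x⟩) ω hcompat
    have hT : ∀ w : Γ(T, ⊤), w = 0 := fun w => by
      have := (Sheaf.H.equiv₀ (Coh.toAb T) (T := (⊤ : X.Opens)) (Preorder.isTerminalTop _)).symm.injective
        (a₁ := w) (a₂ := 0) (h0.elim _ _)
      exact this
    refine TopCat.Sheaf.eq_of_locally_eq'
      (⟨(cokernel ψ).obj, (cokernel ψ).property⟩ : TopCat.Sheaf Ab.{u} X) V ⊤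
      (fun x => homOfLE le_top) (fun x _ => Opens.mem_iSup.2 ⟨x, hxV x⟩) q 0 fun x => ?_
    have hω : ∑ i, Main.tl F (ev p E (V x) (e x i)) (d.app (V x) (α x i)) = 0 := by
      refine (hw x).symm.trans ?_
      rw [hT w]
      exact map_zero _
    haveI : Nonempty (V x) := ⟨⟨x, hxV x⟩⟩
    choose b hbp using fun i => DKer.exists_pow_eq_of_dSect k p f hXn (hV x) (sum_tl_eq_zero (hb x) hω i)
    refine ((hq x).symm.trans ?_).trans (map_zero _).symm
    have hα : comb (fun i => ev p E (V x) (e x i)) le_rfl (α x) = ev p E (V x) (comb (e x) le_rfl b) := by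
      rw [ev_comb]
      simp only [hbp]
    rw [hα]
    exact ConcreteCategory.congr_hom
      (congr_app (congrArg (fun η => η.hom) (cokernel.condition ψ)) (op (V x)))
      (show Γ(E, V x) from comb (e x) le_rfl b)
  rw [injective_iff_map_eq_zero]
  intro x hx
  rw [Sheaf.H.map_apply] at hx
  obtain ⟨z, rfl⟩ := Abelian.Ext.covariant_sequence_exact₁ _ hS x hx (n₀ := 0) rfl
  have hz : z = 0 := (Sheaf.H.equiv₀ (cokernel ψ) (T := (⊤ : X.Opens)) (Preorder.isTerminalTop _)).injective
    ((hQ0 _).trans (map_zero _).symm)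
  rw [hz, Abelian.Ext.zero_comp]

end Groth.Agent.Lib.KodV98.Bundle
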