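import Groth.Agent.Lib.PBasis.Field
import Groth.Agent.Lib.Kaehler.ToSect
import Groth.Prelude.Def_Pi1
import Mathlib.Algebra.Field.ULift
import Mathlib.FieldTheory.Finite.Basic
import Groth.Agent.Lib.FEt.NormalCover

/-!
# Functions killed by the differential on a normal scheme of characteristic `p`
-/

set_option autoImplicit false

universe u

open CategoryTheory AlgebraicGeometry Opposite

namespace Groth.Agent.Lib.KodV98.DKer

open EGA41 Groth.Agent.Lib.PBasis

/-- In a field, an element with vanishing differential over the prime field is a `p`-th power. -/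
theorem exists_pow_eq_of_D_eq_zero (p : ℕ) [Fact p.Prime] (k : Type u) [Field k] (K : Type u) [Field K]
    [Algebra k K] [CharP K p] (hk : ∀ c : k, ∃ b : K, b ^ p = algebraMap k K c) {a : K}
    (ha : KaehlerDifferential.D k K a = 0) : ∃ b : K, b ^ p = a := by
  by_contra hne
  let S : Subfield K := (frobenius K p).fieldRange
  let S' : IntermediateField k K :=
    { S with algebraMap_mem' := fun c => RingHom.mem_fieldRange.2 (hk c) }
  have hFF : Field.FF p k (∅ : Set K) ≤ S' := by
    refine IntermediateField.adjoin_le_iff.2 ?_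
    rw [Set.union_empty]
    rintro _ ⟨y, rfl⟩
    exact ⟨y, rfl⟩
  have hind : IsPIndependent p k (fun _ : PUnit.{u + 1} => a) := by
    refine Field.isPIndependent_iff.2 fun i hmem => hne ?_
    have he : (fun _ : PUnit.{u + 1} => a) '' {b | b ≠ i} = ∅ := by
      ext z
      simp
    rw [he] at hmem
    exact hFF hmem
  exact (Field.isPIndependent_iff_D.1 hind).ne_zero PUnit.unit ha

/-- The differential of the image in a field of an element with vanishing differential vanishes. -/
theorem D_map_eq_zero (p : ℕ) [Fact p.Prime] {A B : CommRingCat.{u}} (φ : A ⟶ B)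
    (hA : ∀ c : A, ∃ c' : A, c' ^ p = c) (k : Type u) [Field k] (K : Type u) [Field K] [Algebra k K]
    [CharP K p] (ι : B →+* K) {a : B}
    (ha : CommRingCat.KaehlerDifferential.d (f := φ) a = 0) :
    KaehlerDifferential.D k K (ι a) = 0 := by
  let D : ((ModuleCat.restrictScalars ι).obj (ModuleCat.of K (Ω[K⁄k]))).Derivation φ :=
    ModuleCat.Derivation.mk (fun b => (KaehlerDifferential.D k K (ι b) : Ω[K⁄k]))
      (fun b b' => (congrArg (KaehlerDifferential.D k K) (map_add ι b b')).trans
        (map_add (KaehlerDifferential.D k K) _ _))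
      (fun b b' => (congrArg (KaehlerDifferential.D k K) (map_mul ι b b')).trans
        ((KaehlerDifferential.D k K).leibniz _ _))
      (fun c => by
        obtain ⟨c', rfl⟩ := hA c
        change KaehlerDifferential.D k K (ι (φ (c' ^ p))) = 0
        rw [map_pow, map_pow]
        exact Deriv.derivation_pow_eq_zero (KaehlerDifferential.D k K) (ι (φ c')))
  have h1 := D.desc_d a
  rw [ha, map_zero] at h1
  exact h1.symm

/-- In an integrally closed domain, an element with vanishing differential relative to a perfect base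
is a `p`-th power. -/
theorem exists_pow_eq (p : ℕ) [Fact p.Prime] {A B : CommRingCat.{u}} [IsDomain B] [IsIntegrallyClosed B]
    [CharP B p] (φ : A ⟶ B) (hA : ∀ c : A, ∃ c' : A, c' ^ p = c) {a : B}
    (ha : CommRingCat.KaehlerDifferential.d (f := φ) a = 0) : ∃ b : B, b ^ p = a := by
  have : CharP (FractionRing B) p :=
    charP_of_injective_algebraMap (IsFractionRing.injective B (FractionRing B)) p
  letI : Algebra (ULift.{u} (ZMod p)) (FractionRing B) :=
    ((ZMod.castHom dvd_rfl (FractionRing B)).comp (ULift.ringEquiv (R := ZMod p)).toRingHom).toAlgebra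
  have hk : ∀ c : ULift.{u} (ZMod p), ∃ b : FractionRing B,
      b ^ p = algebraMap (ULift.{u} (ZMod p)) (FractionRing B) c := fun c => by
    refine ⟨algebraMap (ULift.{u} (ZMod p)) (FractionRing B) c, ?_⟩
    rw [← map_pow]
    exact congrArg _ (ULift.ext _ _ (ZMod.pow_card c.down))
  obtain ⟨b, hb⟩ := exists_pow_eq_of_D_eq_zero p (ULift.{u} (ZMod p)) (FractionRing B) hk
    (D_map_eq_zero p φ hA _ (FractionRing B) (algebraMap B (FractionRing B)) ha)
  obtain ⟨b', rfl⟩ := IsIntegrallyClosed.exists_algebraMap_eq_of_isIntegral_pow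
    (R := B) (K := FractionRing B) (Fact.out : p.Prime).pos (x := b)
    (by rw [hb]; exact isIntegral_algebraMap)
  exact ⟨b', IsFractionRing.injective B (FractionRing B) (by rw [map_pow]; exact hb)⟩

variable {X : Scheme.{u}}

/-- On an affine open of a normal integral scheme over a perfect field, a function killed by the
differential is a `p`-th power. -/
theorem exists_pow_eq_of_dSect (k : Type u) [_root_.Field k] (p : ℕ) [Fact p.Prime] [CharP k p] [PerfectRing k p]
    (f : X ⟶ Spec (CommRingCat.of k)) [QuasiSeparated f] [AlgebraicGeometry.IsIntegral X]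
    (hXn : Pi1.IsNormalScheme X) {V : X.Opens} (hV : IsAffineOpen V) [Nonempty V] {a : Γ(X, V)}
    (ha : OmegaSh.dSect f V a = 0) : ∃ b : Γ(X, V), b ^ p = a := by
  haveI : IsIntegrallyClosed Γ(X, V) := FEt.NormalCover.isIntegrallyClosed_sections hXn
  let φ := f.appLE ⊤ V le_top
  let e := Scheme.ΓSpecIso (CommRingCat.of k)
  haveI : CharP Γ(X, V) p := charP_of_injective_ringHom (φ.hom.comp e.inv.hom).injective p
  refine exists_pow_eq p φ (fun c => ?_) ?_
  · obtain ⟨c', hc'⟩ := (bijective_frobenius k p).2 (e.hom c)
    refine ⟨e.inv c', ?_⟩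
    rw [← map_pow]
    exact (congrArg e.inv.hom hc').trans (Iso.hom_inv_id_apply e c)
  · haveI := Kaehler.ToSect.isIso_toSect f hV (isAffineOpen_top (Spec (CommRingCat.of k))) (le_top : V ≤ f ⁻¹ᵁ ⊤)
    refine (ConcreteCategory.bijective_of_isIso (OmAff.toSect f ⊤ V le_top)).1 ?_
    rw [OmAff.toSect_d, map_zero]
    exact ha

end Groth.Agent.Lib.KodV98.DKer
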