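import Groth.Agent.Lib.KodV98.DKer
import Groth.Agent.Lib.Kaehler.Frob
import Groth.Agent.Lib.FrobCoh.Twisted
import Groth.Agent.Lib.Modules.TensorGen
import Mathlib.CategoryTheory.Sites.EpiMono
import Mathlib.CategoryTheory.Sites.SheafCohomology.Basic

/-!
# Injectivity of the Frobenius map on `H¹` of an invertible module
-/

set_option autoImplicit false

noncomputable section

universe u

open CategoryTheory CategoryTheory.Limits AlgebraicGeometry Opposite TopologicalSpace

namespace Groth.Agent.Lib.KodV98.Main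

open Groth.Agent.Lib.TensorMod Groth.Agent.Lib.TensorMod.Dual Groth.Agent.Lib.TensorMod.Gen
  Groth.Agent.Lib.Ample.Extend Groth.Agent.Lib.FrobCoh

variable {X : Scheme.{u}}

/-- `g ⊗ ·` on sections. -/
def tl (M : X.Modules) {N : X.Modules} {U : X.Opens} (g : Γ(M, U)) :
    Γ(N, U) →ₗ[Γ(X, U)] Γ(CohB1.tensorMod M N, U) where
  toFun n := SecTwist.tmul M N U g n
  map_add' a b := by
    change (SecTwist.tmul M N U g (a + b) : Γ(CohB1.tensorMod M N, U)) = _
    rw [← Ample.GenLocus.pairM_id, ← Ample.GenLocus.pairM_id, ← Ample.GenLocus.pairM_id,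
      TensorMod.Pullback.pairM_add_right]
  map_smul' r m := by
    change (SecTwist.tmul M N U g (r • m) : Γ(CohB1.tensorMod M N, U)) = r • _
    rw [← Ample.GenLocus.pairM_id, ← Ample.GenLocus.pairM_id, TensorMod.Pullback.pairM_smul_right]
    rfl

theorem tl_smul (M : X.Modules) {N : X.Modules} {U : X.Opens} (g : Γ(M, U)) (a : Γ(X, U)) (n : Γ(N, U)) :
    tl M (a • g) n = tl M g (a • n) := by
  change (SecTwist.tmul M N U (a • g) n : Γ(CohB1.tensorMod M N, U)) = SecTwist.tmul M N U g (a • n)
  rw [← Ample.GenLocus.pairM_id, ← Ample.GenLocus.pairM_id, TensorMod.Pullback.pairM_smul_left,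
    TensorMod.Pullback.pairM_smul_right]

theorem tl_injective {M N : X.Modules} {U : X.Opens} {g : Γ(M, U)} (hg : IsGen M U g) :
    Function.Injective (tl (N := N) M g) := fun a b h => by
  refine TopCat.Presheaf.section_ext (⟨N.presheaf, N.isSheaf⟩ : TopCat.Sheaf AddCommGrpCat.{u} X)
    U _ _ fun x hx => (Modules.TensorGen.bijective_tmul_germ (M := N) hg hx).1 ?_
  have h' := (Modules.TensorGen.tensorStalk_germ_tmul hx g a).symm.trans
    ((congrArg (fun z => DerivedOX.TensorSheaf.tensorStalk x M N
      ((CohB1.tensorMod M N).presheaf.germ U x hx z)) h).trans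
        (Modules.TensorGen.tensorStalk_germ_tmul hx g b))
  have h'' := congrArg (TensorProduct.comm _ _ _) h'
  rw [TensorProduct.comm_tmul, TensorProduct.comm_tmul] at h''
  exact h''

variable (k : Type u) [_root_.Field k] (p : ℕ) [Fact p.Prime] [CharP k p]
  (f : X ⟶ Spec (CommRingCat.of k))

include f in
theorem natCast_eq_zero (V : X.Opens) : (p : Γ(X, V)) = 0 := by
  rw [← map_natCast ((Scheme.ΓSpecIso (CommRingCat.of k)).inv ≫ f.appLE ⊤ V le_top).hom,
    CharP.cast_eq_zero k p, map_zero]

include f in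
theorem add_pow' (V : X.Opens) (a b : Γ(X, V)) : (a + b) ^ p = a ^ p + b ^ p := by
  obtain ⟨r, hr⟩ := exists_add_pow_prime_eq (Fact.out : p.Prime) a b
  rw [hr, natCast_eq_zero k p f V, zero_mul, zero_mul, zero_mul, add_zero]

/-- The `p`-th power map on functions. -/
def phi : Coh.toAb (Coh.structureModule X) ⟶ Coh.toAb (Coh.structureModule X) :=
  ⟨{ app := fun U => AddCommGrpCat.ofHom
      (show Γ(X, U.unop) →+ Γ(X, U.unop) from
        AddMonoidHom.mk' (fun t => t ^ p) (add_pow' k p f U.unop))
     naturality := fun U V i => by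
      ext x
      exact (map_pow (X.presheaf.map i).hom (show Γ(X, U.unop) from x) p).symm }⟩

theorem phi_app (U : X.Opens) (t : Γ(X, U)) : (phi k p f).hom.app (op U) t = t ^ p := rfl

variable [PerfectRing k p] [QuasiSeparated f] [AlgebraicGeometry.IsIntegral X]
variable {L : X.Modules} (hL : PicF.IsInvertible L)

include k f in
theorem powSec_injective (U : X.Opens) (x y : Γ(L, U)) (h : powSec x p = powSec y p)
    (hL : PicF.IsInvertible L) : x = y := by
  obtain ⟨W, e, hW, he⟩ := Twisted.exists_cover hL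
  refine HomGlue.sections_ext_cover W L (by rw [hW]; exact le_top) fun i => ?_
  obtain ⟨a, ha⟩ := (he i (U ⊓ W i) inf_le_right).2 (rs L inf_le_left x)
  obtain ⟨b, hb⟩ := (he i (U ⊓ W i) inf_le_right).2 (rs L inf_le_left y)
  simp only at ha hb
  have h' := congrArg (rs _ (inf_le_left : U ⊓ W i ≤ U)) h
  rw [rs_powSec, rs_powSec, ← ha, ← hb, powSec_smul, powSec_smul] at h'
  have h2 : a ^ p = b ^ p :=
    ((isGen_powSec ((he i).res inf_le_right) p) _ le_rfl).1 (by simpa only [rs_self] using h')
  have h3 : a = b := sub_eq_zero.1 (IsReduced.eq_zero _ ⟨p, by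
    have h4 := add_pow' k p f (U ⊓ W i) (a - b) b
    rw [sub_add_cancel, h2] at h4
    linear_combination -h4⟩)
  rw [← ha, ← hb, h3]

include f in
/-- Frobenius is injective on `H¹` of an invertible module `L` on a normal variety if `L^p ⊗ Ω` has
no global sections. -/
theorem injective_H1_pw (hXn : Pi1.IsNormalScheme X)
    (h0 : Subsingleton (Coh.HH X (CohB1.tensorMod (CohB1.tensorPow L p) (Omega.sheaf f)) 0)) :
    Function.Injective (Sheaf.H.map (Twisted.pw p (phi k p f) (phi_app k p f) hL) 1) := by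
  let ψ := Twisted.pw p (phi k p f) (phi_app k p f) hL
  haveI : Mono ψ := Sheaf.mono_of_injective ψ
    (fun U s t hst => powSec_injective k p f U.unop s t hst hL)
  let S : ShortComplex _ := ShortComplex.mk ψ (cokernel.π ψ) (cokernel.condition ψ)
  have hS : S.ShortExact :=
    { exact := ShortComplex.exact_of_g_is_cokernel S (cokernelIsCokernel ψ) }
  let T := CohB1.tensorMod (CohB1.tensorPow L p) (Omega.sheaf f)
  let d : OmegaSh.Der f (Omega.sheaf f) := OmegaSh.dOmega f
  have hQ0 : ∀ q : (cokernel ψ).obj.obj (op (⊤ : X.Opens)), q = 0 := by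
    intro q
    haveI : Sheaf.IsLocallySurjective (cokernel.π ψ) :=
      (Sheaf.isLocallySurjective_iff_epi' (φ := cokernel.π ψ)).2 inferInstance
    obtain ⟨U, e, hU, he⟩ := Twisted.exists_cover hL
    have hlift : ∀ x : X, ∃ (V : X.Opens) (_ : x ∈ V) (_ : IsAffineOpen V) (g : Γ(L, V))
        (α : Γ(X, V)), IsGen L V g ∧
          (cokernel.π ψ).hom.app (op V) (show Γ(CohB1.tensorPow L p, V) from α • powSec g p) =
            (cokernel ψ).obj.map (homOfLE le_top).op q := by
      intro x
      obtain ⟨V₀, i₀, ⟨m, hm⟩, hxV₀⟩ :=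
        Presheaf.imageSieve_mem (Opens.grothendieckTopology X) (cokernel.π ψ).hom (U := op ⊤) q x
          (by trivial)
      obtain ⟨i, hxi⟩ := Opens.mem_iSup.1 (hU.ge (Opens.mem_top x))
      obtain ⟨V, hV, hxV, hVle⟩ := X.isBasis_affineOpens.exists_subset_of_mem_open
        (show x ∈ (V₀ ⊓ U i : X.Opens) from ⟨hxV₀, hxi⟩) (V₀ ⊓ U i).isOpen
      obtain ⟨V, hV', rfl⟩ := hV
      have h0V : V ≤ V₀ := fun y hy => (hVle hy).1
      have h1V : V ≤ U i := fun y hy => (hVle hy).2
      have hg := (he i).res h1V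
      obtain ⟨α, hα⟩ := ((isGen_powSec hg p) V le_rfl).2 (rs _ h0V m)
      simp only [rs_self] at hα
      refine ⟨V, hxV, hV', _, α, hg, ?_⟩
      rw [hα]
      have h1 := ConcreteCategory.congr_hom ((cokernel.π ψ).hom.naturality (homOfLE h0V).op) m
      refine h1.trans ?_
      change (cokernel ψ).obj.map (homOfLE h0V).op ((cokernel.π ψ).hom.app (op V₀) m) = _
      rw [hm, ← ConcreteCategory.comp_apply, ← Functor.map_comp]
      rfl
    choose V hxV hV g α hg hq using hlift
    let ω : ∀ x, Γ(T, V x) := fun x => tl (CohB1.tensorPow L p) (powSec (g x) p) (d.app (V x) (α x))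
    have hcompat : TopCat.Presheaf.IsCompatible T.presheaf V ω := fun x y => by
      let W := V x ⊓ V y
      change rs T (inf_le_left : W ≤ V x) (ω x) = rs T (inf_le_right : W ≤ V y) (ω y)
      let E := sheafToPresheaf (Opens.grothendieckTopology X) AddCommGrpCat.{u} ⋙
        (evaluation _ _).obj (op W)
      have hE : (S.map E).Exact := hS.exact.map_of_mono_of_preservesKernel E hS.mono_f inferInstance
      have hres : ∀ z (h : W ≤ V z), (cokernel.π ψ).hom.app (op W)
          (show Γ(CohB1.tensorPow L p, W) from rf h (α z) • powSec (rs L h (g z)) p) =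
            (cokernel ψ).obj.map (homOfLE le_top).op q := by
        intro z h
        have h1 := ConcreteCategory.congr_hom ((cokernel.π ψ).hom.naturality (homOfLE h).op)
          (show Γ(CohB1.tensorPow L p, V z) from α z • powSec (g z) p)
        have h2 : rs (CohB1.tensorPow L p) h (α z • powSec (g z) p) =
            rf h (α z) • powSec (rs L h (g z)) p := by rw [rs_smul, rs_powSec]
        rw [← h2]
        refine h1.trans ((congrArg ((cokernel ψ).obj.map (homOfLE h).op) (hq z)).trans ?_)
        rw [← ConcreteCategory.comp_apply, ← Functor.map_comp]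
        rfl
      have hgx : IsGen L W (rs L inf_le_left (g x)) := (hg x).res inf_le_left
      obtain ⟨u, hu⟩ := (hgx W le_rfl).2 (rs L inf_le_right (g y))
      simp only [rs_self] at hu
      obtain ⟨c, hc⟩ := (ShortComplex.ab_exact_iff _).1 hE
        ((show Γ(CohB1.tensorPow L p, W) from
          rf inf_le_left (α x) • powSec (rs L inf_le_left (g x)) p) -
          (show Γ(CohB1.tensorPow L p, W) from
            rf inf_le_right (α y) • powSec (rs L inf_le_right (g y)) p))
        ((map_sub ((cokernel.π ψ).hom.app (op W)).hom _ _).trans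
          (sub_eq_zero.2 ((hres x inf_le_left).trans (hres y inf_le_right).symm)))
      obtain ⟨γ, hγ⟩ := (hgx W le_rfl).2 (show Γ(L, W) from c)
      simp only [rs_self] at hγ
      change powSec (show Γ(L, W) from c) p = _ at hc
      rw [← hγ, ← hu, powSec_smul, powSec_smul, smul_smul, ← sub_smul] at hc
      have hc' : γ ^ p = rf inf_le_left (α x) - rf inf_le_right (α y) * u ^ p :=
        ((isGen_powSec hgx p) W le_rfl).1 (by simpa only [rs_self] using hc)
      have hd0 : ∀ t : Γ(X, W), d.app W (t ^ p) = 0 := fun t =>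
        Kaehler.Frob.der_app_pow d W t p (Fact.out : p.Prime).one_le (natCast_eq_zero k p f W)
      have hd := congrArg (d.app W) hc'
      rw [hd0, map_sub, Kaehler.Basic.der_app_mul, hd0, smul_zero, zero_add, eq_comm,
        sub_eq_zero] at hd
      have e1 : ∀ z (h : W ≤ V z), rs T h (ω z) =
          tl (CohB1.tensorPow L p) (powSec (rs L h (g z)) p) (d.app W (rf h (α z))) := by
        intro z h
        refine (Ample.GenLocus.rs_tmul h _ _).trans ?_
        rw [rs_powSec]
        exact congrArg (tl (CohB1.tensorPow L p) (powSec (rs L h (g z)) p))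
          (Kaehler.Basic.der_app_map d h (α z)).symm
      rw [e1 x inf_le_left, e1 y inf_le_right, ← hu, powSec_smul, tl_smul, hd]
    obtain ⟨w, hw, -⟩ := TopCat.Sheaf.existsUnique_gluing'
      (⟨T.presheaf, T.isSheaf⟩ : TopCat.Sheaf Ab.{u} X) V ⊤ (fun x => homOfLE le_top)
      (fun x _ => Opens.mem_iSup.2 ⟨x, hxV x⟩) ω hcompat
    have hT : ∀ w : Γ(T, ⊤), w = 0 := fun w => by
      have := (Sheaf.H.equiv₀ (Coh.toAb T) (T := (⊤ : X.Opens)) (Preorder.isTerminalTop _)).symm.injective
        (a₁ := w) (a₂ := 0) (h0.elim _ _)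
      exact this
    refine TopCat.Sheaf.eq_of_locally_eq'
      (⟨(cokernel ψ).obj, (cokernel ψ).property⟩ : TopCat.Sheaf Ab.{u} X) V ⊤
      (fun x => homOfLE le_top) (fun x _ => Opens.mem_iSup.2 ⟨x, hxV x⟩) q 0 fun x => ?_
    have hω : tl (CohB1.tensorPow L p) (powSec (g x) p) (d.app (V x) (α x)) = 0 := by
      refine (hw x).symm.trans ?_
      rw [hT w]
      exact map_zero _
    have hdα : d.app (V x) (α x) = 0 :=
      tl_injective (isGen_powSec (hg x) p) (hω.trans (map_zero _).symm)
    haveI : Nonempty (V x) := ⟨⟨x, hxV x⟩⟩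
    obtain ⟨b, hb⟩ := DKer.exists_pow_eq_of_dSect k p f hXn (hV x) hdα
    refine ((hq x).symm.trans ?_).trans (map_zero _).symm
    rw [← hb, ← powSec_smul]
    exact ConcreteCategory.congr_hom
      (congr_app (congrArg (fun η => η.hom) (cokernel.condition ψ)) (op (V x)))
      (show Γ(L, V x) from b • g x)
  rw [injective_iff_map_eq_zero]
  intro x hx
  rw [Sheaf.H.map_apply] at hx
  obtain ⟨z, rfl⟩ := Abelian.Ext.covariant_sequence_exact₁ _ hS x hx (n₀ := 0) rfl
  have hz : z = 0 := (Sheaf.H.equiv₀ (cokernel ψ) (T := (⊤ : X.Opens)) (Preorder.isTerminalTop _)).injective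
    ((hQ0 _).trans (map_zero _).symm)
  rw [hz, Abelian.Ext.zero_comp]

end Groth.Agent.Lib.KodV98.Main
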