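import Groth.Agent.Lib.KodV98.Main
import Groth.Prelude.Def_PicGrp

/-!
# Vanishing of `H¹` through Frobenius
-/

set_option autoImplicit false

noncomputable section

universe u

open CategoryTheory CategoryTheory.Limits AlgebraicGeometry Opposite TopologicalSpace

namespace Groth.Agent.Lib.KodV98.Vanish

theorem subsingleton_HH_of_iso {X : Scheme.{u}} {M N : X.Modules} (e : M ≅ N) (n : ℕ)
    (h : Subsingleton (Coh.HH X N n)) : Subsingleton (Coh.HH X M n) := by
  let i : Coh.toAb M ≅ Coh.toAb N := (SheafOfModules.toSheaf X.ringCatSheaf).mapIso e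
  exact Function.Injective.subsingleton (f := Sheaf.H.map i.hom n)
    (Function.LeftInverse.injective (g := Sheaf.H.map i.inv n) fun x => by
      rw [← Sheaf.H.map_comp_apply, i.hom_inv_id, Sheaf.H.map_id_apply])

theorem subsingleton_H1 {X : Scheme.{u}} (k : Type u) [_root_.Field k] (p : ℕ) [Fact p.Prime] [CharP k p]
    [PerfectRing k p] (f : X ⟶ Spec (CommRingCat.of k)) [QuasiSeparated f] [AlgebraicGeometry.IsIntegral X]
    (hXn : Pi1.IsNormalScheme X) {L : X.Modules} (hL : PicF.IsInvertible L)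
    (h0 : Subsingleton (Coh.HH X (CohB1.tensorMod (CohB1.tensorPow L p) (Omega.sheaf f)) 0))
    (h1 : Subsingleton (Coh.HH X (CohB1.tensorPow L p) 1)) : Subsingleton (Coh.HH X L 1) :=
  Function.Injective.subsingleton (Main.injective_H1_pw k p f hL hXn h0)

theorem subsingleton_H1_of_exists {X : Scheme.{u}} (k : Type u) [_root_.Field k] (p : ℕ) [Fact p.Prime]
    [CharP k p] [PerfectRing k p] (f : X ⟶ Spec (CommRingCat.of k)) [QuasiSeparated f]
    [AlgebraicGeometry.IsIntegral X] (hXn : Pi1.IsNormalScheme X) {L : X.Modules} (hL : PicF.IsInvertible L)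
    (h0 : ∀ n : ℕ, 1 ≤ n →
      Subsingleton (Coh.HH X (CohB1.tensorMod (CohB1.tensorPow L (p ^ n)) (Omega.sheaf f)) 0)) :
    ∀ (n : ℕ), Subsingleton (Coh.HH X (CohB1.tensorPow L (p ^ n)) 1) → Subsingleton (Coh.HH X L 1) := by
  intro n
  induction n with
  | zero =>
    intro h
    refine subsingleton_HH_of_iso ?_ 1 h
    exact (TensorMod.Basic.leftUnit L).symm ≪≫ (Ample.Pow.powCongr L (pow_zero p).symm)
  | succ n ih =>
    intro h
    let e : CohB1.tensorPow (CohB1.tensorPow L (p ^ n)) p ≅ CohB1.tensorPow L (p ^ (n + 1)) :=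
      Ample.Pow.powMul L (p ^ n) p ≪≫ Ample.Pow.powCongr L (pow_succ p n).symm
    refine ih (subsingleton_H1 k p f hXn ?_ ?_ ?_)
    · exact TensorMod.Gen.isInvertible_iff.2 fun x => by
        obtain ⟨U, g, hx, hg⟩ := TensorMod.Gen.isInvertible_iff.1 hL x
        exact ⟨U, _, hx, Ample.Extend.isGen_powSec hg _⟩
    · exact subsingleton_HH_of_iso (TensorMod.Basic.tensorIso e (Iso.refl _)) 0 (h0 (n + 1) (by omega))
    · exact subsingleton_HH_of_iso e 1 h

end Groth.Agent.Lib.KodV98.Vanish
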